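import Mathlib.GroupTheory.Perm.Cycle.Type
import Mathlib.GroupTheory.SpecificGroups.Alternating
import Mathlib.Tactic

/-! A subgroup of `S₇` of order divisible by 35 contains a 3-cycle. -/

set_option autoImplicit false
set_option linter.style.haveILetI false

namespace Cfsg.Agent.SevenPoints

open Equiv Equiv.Perm
open scoped Fin.NatCast

/-- A permutation of prime order moving at most `2r-1` points is an `r`-cycle. -/
lemma isCycle_of_prime_order {α : Type*} [Fintype α] [DecidableEq α] {g : Perm α} {r : ℕ}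
    (hr : r.Prime) (hg : orderOf g = r) (hlt : Fintype.card α < 2 * r) :
    g.IsCycle ∧ g.support.card = r := by
  have hc : g.IsCycle := isCycle_of_prime_order' (hg.symm ▸ hr) (hg.symm ▸ hlt)
  exact ⟨hc, by rw [← hc.orderOf, hg]⟩

lemma finRotate_pow_apply : ∀ (k : ℕ) (u : Fin 7), ((finRotate 7) ^ k) u = u + (k : Fin 7) := by
  intro k
  induction k with
  | zero => intro u; simp
  | succ k ih =>
    intro u
    rw [pow_succ', Perm.mul_apply, ih, finRotate_apply, Nat.cast_succ]
    simp [add_assoc]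

lemma affine_bijective : ∀ x y : Fin 7, x ≠ y → ∀ u v : Fin 7,
    x + u * (y - x) = x + v * (y - x) → u = v := by
  decide

lemma affine_step : ∀ x y u : Fin 7, x + (u + 1) * (y - x) = x + u * (y - x) + (y - x) := by
  decide

lemma affine_vals : ∀ x y : Fin 7, x + 0 * (y - x) = x ∧ x + 1 * (y - x) = y := by
  decide

/-- The standard seven-cycle together with a normalised five-cycle yields a three-cycle. -/
lemma core {K : Subgroup (Perm (Fin 7))} (hc : finRotate 7 ∈ K) {d : Perm (Fin 7)} (hd : d ∈ K)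
    (h0 : d 0 = 0) (h1 : d 1 = 1) (h2 : d 2 = 3) (h5 : orderOf d = 5) :
    ∃ t ∈ K, Perm.IsThreeCycle t := by
  obtain ⟨hcyc, hsup⟩ := isCycle_of_prime_order (by norm_num) h5 (by simp)
  have hS : d.support = {2, 3, 4, 5, 6} := by
    refine Finset.eq_of_subset_of_card_le (fun z hz => ?_) (by rw [hsup]; decide)
    have hz' := Perm.mem_support.1 hz
    fin_cases z <;> first | exact absurd h0 hz' | exact absurd h1 hz' | decide
  have hmem2 : d 2 ≠ 2 := by rw [h2]; decide
  have hinj : ∀ i j : ℕ, i < 5 → j < 5 → (d ^ i) 2 = (d ^ j) 2 → i = j := by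
    intro i j hi hj he
    have h := (hcyc.pow_eq_pow_iff).2 ⟨2, hmem2, he⟩
    exact pow_injOn_Iio_orderOf (Set.mem_Iio.2 (h5.symm ▸ hi)) (Set.mem_Iio.2 (h5.symm ▸ hj)) h
  have hval : ∀ i : ℕ, (d ^ i) 2 ∈ ({2, 3, 4, 5, 6} : Finset (Fin 7)) := fun i => by
    rw [← hS]; exact Perm.pow_apply_mem_support.2 (Perm.mem_support.2 hmem2)
  have e0 : (d ^ 0) 2 = 2 := rfl
  have e1 : (d ^ 1) 2 = 3 := by rw [pow_one]; exact h2
  set a := (d ^ 2) 2 with ha
  set b := (d ^ 3) 2 with hb
  set e := (d ^ 4) 2 with he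
  have d3 : d 3 = a := by rw [ha, pow_succ' d 1, Perm.mul_apply, e1]
  have da : d a = b := by rw [ha, hb, pow_succ' d 2, Perm.mul_apply]
  have db : d b = e := by rw [hb, he, pow_succ' d 3, Perm.mul_apply]
  have de : d e = 2 := by
    rw [he, ← Perm.mul_apply, ← pow_succ', show 4 + 1 = orderOf d from h5.symm, pow_orderOf_eq_one]
    rfl
  have ha2 : a ≠ 2 := fun h => absurd (hinj 2 0 (by norm_num) (by norm_num) h) (by norm_num)
  have ha3 : a ≠ 3 := fun h => absurd (hinj 2 1 (by norm_num) (by norm_num) (h.trans e1.symm)) (by norm_num)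
  have hb2 : b ≠ 2 := fun h => absurd (hinj 3 0 (by norm_num) (by norm_num) h) (by norm_num)
  have hb3 : b ≠ 3 := fun h => absurd (hinj 3 1 (by norm_num) (by norm_num) (h.trans e1.symm)) (by norm_num)
  have hba : b ≠ a := fun h => absurd (hinj 3 2 (by norm_num) (by norm_num) h) (by norm_num)
  have he2 : e ≠ 2 := fun h => absurd (hinj 4 0 (by norm_num) (by norm_num) h) (by norm_num)
  have he3 : e ≠ 3 := fun h => absurd (hinj 4 1 (by norm_num) (by norm_num) (h.trans e1.symm)) (by norm_num)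
  have hea : e ≠ a := fun h => absurd (hinj 4 2 (by norm_num) (by norm_num) h) (by norm_num)
  have heb : e ≠ b := fun h => absurd (hinj 4 3 (by norm_num) (by norm_num) h) (by norm_num)
  have ma := hval 2
  have mb := hval 3
  have me := hval 4
  rw [← ha] at ma
  rw [← hb] at mb
  rw [← he] at me
  set c : Perm (Fin 7) := finRotate 7 with hcdef
  simp only [Finset.mem_insert, Finset.mem_singleton] at ma mb me
  rcases ma with ma | ma | ma | ma | ma <;> first | exact absurd ma ha2 | exact absurd ma ha3 | skip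
  all_goals rcases mb with mb | mb | mb | mb | mb <;>
    first | exact absurd mb hb2 | exact absurd mb hb3 | exact absurd (mb.trans ma.symm) hba | skip
  all_goals rcases me with me | me | me | me | me <;>
    first | exact absurd me he2 | exact absurd me he3 | exact absurd (me.trans ma.symm) hea | exact absurd (me.trans mb.symm) heb | skip
  all_goals
    have hdeq : d = [2, 3, a, b, e].formPerm := by
      rw [ma, mb, me]
      rw [ma] at d3 da
      rw [mb] at da db
      rw [me] at db de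
      refine Equiv.ext fun z => ?_
      fin_cases z <;> first
        | exact h0.trans (by decide) | exact h1.trans (by decide) | exact h2.trans (by decide)
        | exact d3.trans (by decide) | exact da.trans (by decide) | exact db.trans (by decide)
        | exact de.trans (by decide)
    rw [ma, mb, me] at hdeq
  · exact ⟨c * d ^ 4, K.mul_mem hc (K.pow_mem hd 4),
      _root_.card_support_eq_three_iff.1 (by rw [hdeq, hcdef]; decide +kernel)⟩
  · exact ⟨c ^ 4 * d ^ 2 * c * d, K.mul_mem (K.mul_mem (K.mul_mem (K.pow_mem hc 4) (K.pow_mem hd 2)) hc) hd,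
      _root_.card_support_eq_three_iff.1 (by rw [hdeq, hcdef]; decide +kernel)⟩
  · exact ⟨c ^ 3 * d * c ^ 2 * d, K.mul_mem (K.mul_mem (K.mul_mem (K.pow_mem hc 3) hd) (K.pow_mem hc 2)) hd,
      _root_.card_support_eq_three_iff.1 (by rw [hdeq, hcdef]; decide +kernel)⟩
  · exact ⟨c ^ 2 * d ^ 2 * c ^ 2 * d ^ 2,
      K.mul_mem (K.mul_mem (K.mul_mem (K.pow_mem hc 2) (K.pow_mem hd 2)) (K.pow_mem hc 2)) (K.pow_mem hd 2),
      _root_.card_support_eq_three_iff.1 (by rw [hdeq, hcdef]; decide +kernel)⟩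
  · exact ⟨c ^ 3 * d ^ 4 * c * d, K.mul_mem (K.mul_mem (K.mul_mem (K.pow_mem hc 3) (K.pow_mem hd 4)) hc) hd,
      _root_.card_support_eq_three_iff.1 (by rw [hdeq, hcdef]; decide +kernel)⟩
  · exact ⟨c ^ 2 * d ^ 3 * c * d * c * d,
      K.mul_mem (K.mul_mem (K.mul_mem (K.mul_mem (K.mul_mem (K.pow_mem hc 2) (K.pow_mem hd 3)) hc) hd) hc) hd,
      _root_.card_support_eq_three_iff.1 (by rw [hdeq, hcdef]; decide +kernel)⟩

/-- A subgroup of `S₇` of order divisible by `5` and `7` contains a three-cycle. -/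
theorem exists_threeCycle {K : Subgroup (Perm (Fin 7))} (h5 : 5 ∣ Nat.card K) (h7 : 7 ∣ Nat.card K) :
    ∃ t ∈ K, Perm.IsThreeCycle t := by
  haveI : Fact (Nat.Prime 5) := ⟨by norm_num⟩
  haveI : Fact (Nat.Prime 7) := ⟨by norm_num⟩
  obtain ⟨⟨c, hc⟩, hoc⟩ := exists_prime_orderOf_dvd_card' 7 h7
  obtain ⟨⟨d, hd⟩, hod⟩ := exists_prime_orderOf_dvd_card' 5 h5
  rw [← Subgroup.orderOf_coe] at hoc hod
  obtain ⟨hcc, hcs⟩ := isCycle_of_prime_order (by norm_num) hoc (by simp)
  have hrot : (finRotate 7).IsCycle ∧ (finRotate 7).support.card = 7 :=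
    ⟨isCycle_finRotate, by rw [support_finRotate]; simp⟩
  obtain ⟨π, hπ⟩ := isConj_iff.1 (hcc.isConj hrot.1 (hcs.trans hrot.2.symm))
  set d' := π * d * π⁻¹ with hd'
  have hod' : orderOf d' = 5 := by rw [hd', ← MulAut.conj_apply, MulEquiv.orderOf_eq, hod]
  obtain ⟨hdc', hds'⟩ := isCycle_of_prime_order (by norm_num) hod' (by simp)
  obtain ⟨x, y, hxy, hfix⟩ : ∃ x y, x ≠ y ∧ d'.supportᶜ = {x, y} := by
    rw [← Finset.card_eq_two, Finset.card_compl, hds']; simp
  have hx : d' x = x := by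
    have : x ∈ d'.supportᶜ := by rw [hfix]; simp
    simpa using this
  have hy : d' y = y := by
    have : y ∈ d'.supportᶜ := by rw [hfix]; simp
    simpa using this
  let β : Perm (Fin 7) := Equiv.ofBijective (fun u => x + u * (y - x))
    ((Finite.injective_iff_bijective).1 fun u v => affine_bijective x y hxy u v)
  have hβ : ∀ u, β u = x + u * (y - x) := fun u => rfl
  set K' := K.map (MulAut.conj (β⁻¹ * π)).toMonoidHom with hK'
  have hmemK : ∀ g ∈ K, β⁻¹ * π * g * (β⁻¹ * π)⁻¹ ∈ K' := fun g hg => ⟨g, hg, rfl⟩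
  have hrotK : finRotate 7 ∈ K' := by
    have h := hmemK _ (K.pow_mem hc (y - x).val)
    have e : β⁻¹ * π * c ^ (y - x).val * (β⁻¹ * π)⁻¹ = finRotate 7 := by
      rw [show β⁻¹ * π * c ^ (y - x).val * (β⁻¹ * π)⁻¹ =
        β⁻¹ * (π * c ^ (y - x).val * π⁻¹) * β by group, ← conj_pow, hπ]
      ext u
      rw [Perm.mul_apply, Perm.mul_apply, finRotate_pow_apply, Fin.cast_val_eq_self, hβ]
      congr 1
      apply β.injective
      rw [← Perm.mul_apply, mul_inv_cancel, Perm.one_apply, hβ, finRotate_apply, affine_step]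
    rwa [e] at h
  set d'' := β⁻¹ * d' * β with hd''
  have hdK : d'' ∈ K' := by
    have := hmemK d hd
    rwa [show β⁻¹ * π * d * (β⁻¹ * π)⁻¹ = β⁻¹ * (π * d * π⁻¹) * β by group] at this
  obtain ⟨v0, v1⟩ := affine_vals x y
  have hfixed : ∀ u z, β u = z → d' z = z → d'' u = u := by
    intro u z hu hz
    apply β.injective
    rw [hd'', Perm.mul_apply, Perm.mul_apply, hu, hz, ← Perm.mul_apply, mul_inv_cancel,
      Perm.one_apply]
  have f0 : d'' 0 = 0 := hfixed 0 x ((hβ 0).trans v0) hx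
  have f1 : d'' 1 = 1 := hfixed 1 y ((hβ 1).trans v1) hy
  have hod'' : orderOf d'' = 5 := by
    rw [hd'', show β⁻¹ * d' * β = MulAut.conj β⁻¹ d' by simp, MulEquiv.orderOf_eq, hod']
  obtain ⟨hdc'', hds''⟩ := isCycle_of_prime_order (by norm_num) hod'' (by simp)
  have hS : d''.support = {2, 3, 4, 5, 6} := by
    refine Finset.eq_of_subset_of_card_le (fun z hz => ?_) (by rw [hds'']; decide)
    have hz' := Perm.mem_support.1 hz
    fin_cases z <;> first | exact absurd f0 hz' | exact absurd f1 hz' | decide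
  obtain ⟨k, hk⟩ := hdc''.exists_pow_eq (x := 2) (y := 3)
    (Perm.mem_support.1 (by rw [hS]; decide)) (Perm.mem_support.1 (by rw [hS]; decide))
  have hne : d'' ^ k ≠ 1 := fun h => by rw [h] at hk; exact absurd hk (by decide)
  obtain ⟨t, ht, ht3⟩ := core hrotK (K'.pow_mem hdK k) (Perm.pow_apply_eq_self_of_apply_eq_self f0 k)
    (Perm.pow_apply_eq_self_of_apply_eq_self f1 k) hk
    (orderOf_eq_prime (by rw [← pow_mul, mul_comm, pow_mul, ← hod'', pow_orderOf_eq_one, one_pow]) hne)
  obtain ⟨g, hg, rfl⟩ := ht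
  refine ⟨g, hg, ?_⟩
  simp only [Perm.IsThreeCycle, MulEquiv.coe_toMonoidHom, MulAut.conj_apply,
    Perm.cycleType_conj] at ht3 ⊢
  exact ht3

end Cfsg.Agent.SevenPoints
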