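import Cfsg.Agent.Lib.PermDerange.PrimeBounds
import Cfsg.Agent.Lib.PermDerange.SevenPoints
import Cfsg.Agent.Lib.FGStruct.JordanCycle
import Mathlib.GroupTheory.GroupAction.SubMulAction.Combination
import Mathlib.GroupTheory.GroupAction.Primitive
import Mathlib.GroupTheory.SpecificGroups.Alternating.Simple
import Mathlib.GroupTheory.Index
import Mathlib.GroupTheory.Sylow

/-! Ingredients for derangements of prime order in almost simple groups with alternating socle. -/

set_option autoImplicit false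
set_option linter.style.haveILetI false
set_option linter.unusedDecidableInType false
set_option linter.unusedFintypeInType false
set_option linter.unusedSectionVars false

namespace Cfsg.Agent.PermDerange

open Equiv MulAction
open scoped Pointwise

variable {α : Type*} [Fintype α] [DecidableEq α]

lemma exists_not_mem_trivial_of_lt {β : Type*} [Finite β] {K : Type*} [Group K] [MulAction K β] {s : ℕ}
    (hs : s.Prime) (h : K) (hh : h ^ s = 1) (hlt : Nat.card β < s) (b : β) : h • b = b := by
  haveI : Fact s.Prime := ⟨hs⟩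
  have hp : IsPGroup s (Subgroup.zpowers h) := fun g => by
    refine ⟨1, Subtype.ext ?_⟩
    obtain ⟨i, hi⟩ := Subgroup.mem_zpowers_iff.1 g.2
    simp only [pow_one, SubmonoidClass.coe_pow, Subgroup.coe_one, ← hi]
    rw [← zpow_natCast, ← zpow_mul, mul_comm, zpow_mul, zpow_natCast, hh, one_zpow]
  obtain ⟨k, hk⟩ := hp.card_orbit b
  have hle : Nat.card (orbit (Subgroup.zpowers h) b) ≤ Nat.card β := Finite.card_subtype_le _
  rcases k with - | k
  · rw [pow_zero, Nat.card_eq_one_iff_unique] at hk
    haveI := hk.1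
    have := Subsingleton.elim (α := orbit (Subgroup.zpowers h) b)
      ⟨_, mem_orbit b ⟨h, Subgroup.mem_zpowers h⟩⟩ ⟨b, mem_orbit_self b⟩
    simpa [Subgroup.smul_def] using congrArg Subtype.val this
  · have : s ≤ s ^ (k + 1) := Nat.le_self_pow (by omega) _
    omega

/-- Transitive and imprimitive groups have order prime to primes exceeding half the degree. -/
theorem imprimitive_not_dvd {K : Subgroup (Perm α)} (ht : IsPretransitive K α)
    (hprim : ¬ IsPreprimitive K α) {s : ℕ} (hs : s.Prime) (hlt : Fintype.card α < 2 * s) :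
    ¬ s ∣ Nat.card K := by
  haveI : Fact s.Prime := ⟨hs⟩
  haveI := ht
  obtain ⟨B, hB, hBnt⟩ : ∃ B : Set α, IsBlock K B ∧ ¬ IsTrivialBlock B := by
    by_contra hc
    push Not at hc
    exact hprim { isTrivialBlock_of_isBlock := fun h => hc _ h }
  simp only [IsTrivialBlock, not_or] at hBnt
  obtain ⟨hsub, huniv⟩ := hBnt
  obtain ⟨x0, hx0, y0, hy0, hxy0⟩ := Set.not_subsingleton_iff.1 hsub
  have hcard := hB.ncard_block_mul_ncard_orbit_eq ⟨x0, hx0⟩
  rw [Nat.card_eq_fintype_card] at hcard
  have hB2 : 2 ≤ B.ncard := by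
    rw [← Set.ncard_pair hxy0]
    exact Set.ncard_le_ncard (Set.insert_subset hx0 (Set.singleton_subset_iff.2 hy0))
  have hBlt : B.ncard < Fintype.card α := by
    rw [← Nat.card_eq_fintype_card, ← Set.ncard_univ]
    exact Set.ncard_lt_ncard (Set.ssubset_univ_iff.2 huniv)
  have horb2 : 2 ≤ (orbit K B).ncard := by
    by_contra hc
    have : B.ncard * (orbit K B).ncard ≤ B.ncard * 1 := Nat.mul_le_mul_left _ (by omega)
    omega
  have hBs : B.ncard < s := by
    have : B.ncard * 2 ≤ Fintype.card α := hcard ▸ Nat.mul_le_mul_left _ horb2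
    omega
  have hOs : (orbit K B).ncard < s := by
    have : 2 * (orbit K B).ncard ≤ Fintype.card α := hcard ▸ Nat.mul_le_mul_right _ hB2
    omega
  intro hd
  obtain ⟨h, hh⟩ := exists_prime_orderOf_dvd_card' s hd
  have hpow : h ^ s = 1 := hh ▸ pow_orderOf_eq_one h
  have hfixblock : ∀ k : K, h • (k • B) = k • B := fun k => by
    have := exists_not_mem_trivial_of_lt (β := orbit K B) hs h hpow
      (by rw [Nat.card_coe_set_eq]; exact hOs) ⟨k • B, mem_orbit B k⟩
    exact congrArg Subtype.val this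
  have h1 : h = 1 := by
    apply Subtype.ext
    ext x
    obtain ⟨k, hk⟩ := exists_smul_eq K x0 x
    set B' := k • B
    have hxB : x ∈ B' := hk ▸ Set.smul_mem_smul_set hx0
    have hstab : ∀ g : Subgroup.zpowers h, ∀ y ∈ B', g • y ∈ B' := by
      intro g y hy
      have hg : (g : K) ∈ stabilizer K B' := (Subgroup.zpowers_le.2 (hfixblock k)) g.2
      rw [mem_stabilizer_iff] at hg
      rw [Subgroup.smul_def, ← hg]
      exact Set.smul_mem_smul_set hy
    have hp : IsPGroup s (Subgroup.zpowers h) := fun g => by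
      refine ⟨1, Subtype.ext ?_⟩
      obtain ⟨i, hi⟩ := Subgroup.mem_zpowers_iff.1 g.2
      simp only [pow_one, SubmonoidClass.coe_pow, Subgroup.coe_one, ← hi]
      rw [← zpow_natCast, ← zpow_mul, mul_comm, zpow_mul, zpow_natCast, hpow, one_zpow]
    obtain ⟨j, hj⟩ := hp.card_orbit x
    have hle : Nat.card (orbit (Subgroup.zpowers h) x) ≤ B'.ncard := by
      rw [Nat.card_coe_set_eq]
      refine Set.ncard_le_ncard ?_
      rintro y ⟨g, rfl⟩
      exact hstab g x hxB
    rw [show B'.ncard = B.ncard from Set.ncard_smul_set k B] at hle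
    rcases j with - | j
    · rw [pow_zero, Nat.card_eq_one_iff_unique] at hj
      haveI := hj.1
      have := Subsingleton.elim (α := orbit (Subgroup.zpowers h) x)
        ⟨_, mem_orbit x ⟨h, Subgroup.mem_zpowers h⟩⟩ ⟨x, mem_orbit_self x⟩
      simpa [Subgroup.smul_def] using congrArg Subtype.val this
    · have : s ≤ s ^ (j + 1) := Nat.le_self_pow (by omega) _
      omega
  rw [h1, orderOf_one] at hh
  exact hs.ne_one hh.symm

/-- A transitive subgroup not containing the alternating group misses a prime in `(m/2, m]`. -/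
theorem exists_prime_not_dvd {m : ℕ} (hm : 5 ≤ m) (h6 : m ≠ 6) {K : Subgroup (Perm (Fin m))}
    (ht : IsPretransitive K (Fin m)) (hA : ¬ alternatingGroup (Fin m) ≤ K) :
    ∃ s : ℕ, s.Prime ∧ m < 2 * s ∧ s ≤ m ∧ ¬ s ∣ Nat.card K := by
  by_cases hprim : IsPreprimitive K (Fin m)
  · rcases (show m = 5 ∨ m = 7 ∨ 8 ≤ m by omega) with rfl | rfl | h8
    · refine ⟨3, by norm_num, by norm_num, by norm_num, fun hd => hA ?_⟩
      haveI : Fact (Nat.Prime 3) := ⟨by norm_num⟩
      obtain ⟨⟨g, hg⟩, hog⟩ := exists_prime_orderOf_dvd_card' 3 hd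
      rw [← Subgroup.orderOf_coe] at hog
      obtain ⟨-, hs⟩ := SevenPoints.isCycle_of_prime_order (by norm_num) hog (by simp)
      exact Perm.alternatingGroup_le_of_isPreprimitive_of_isThreeCycle_mem hprim
        (_root_.card_support_eq_three_iff.1 hs) hg
    · by_cases h5 : 5 ∣ Nat.card K
      · refine ⟨7, by norm_num, by norm_num, le_rfl, fun h7 => hA ?_⟩
        obtain ⟨t, ht', h3⟩ := SevenPoints.exists_threeCycle h5 h7
        exact Perm.alternatingGroup_le_of_isPreprimitive_of_isThreeCycle_mem hprim h3 ht'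
      · exact ⟨5, by norm_num, by norm_num, by norm_num, h5⟩
    · obtain ⟨s, hs, h2s, hs3⟩ := PrimeBounds.exists_prime_two_mul_gt h8
      refine ⟨s, hs, h2s, by omega, fun hd => hA ?_⟩
      haveI : Fact s.Prime := ⟨hs⟩
      obtain ⟨⟨g, hg⟩, hog⟩ := exists_prime_orderOf_dvd_card' s hd
      rw [← Subgroup.orderOf_coe] at hog
      obtain ⟨hgc, hgs⟩ := SevenPoints.isCycle_of_prime_order hs hog (by simpa using h2s)
      exact JordanCycle.alternatingGroup_le_of_prime_cycle hprim hs (by simpa using hs3) hgc hgs hg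
  · obtain ⟨s, hs, h1, h2⟩ := Nat.exists_prime_lt_and_le_two_mul (m / 2) (by omega)
    exact ⟨s, hs, by omega, by omega, imprimitive_not_dvd ht hprim hs (by simp; omega)⟩

lemma dvd_card_alternating {m s : ℕ} (hs : s.Prime) (h2 : s ≠ 2) (hsm : s ≤ m) :
    s ∣ Nat.card (alternatingGroup (Fin m)) := by
  haveI : Nontrivial (Fin m) := Fin.nontrivial_iff_two_le.2 (hs.two_le.trans hsm)
  have h : s ∣ 2 * Nat.card (alternatingGroup (Fin m)) := by
    rw [Nat.card_eq_fintype_card, two_mul_card_alternatingGroup, Fintype.card_perm, Fintype.card_fin]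
    exact hs.dvd_factorial.2 hsm
  exact (hs.dvd_mul.1 h).resolve_left fun h => h2 ((Nat.prime_dvd_prime_iff_eq hs Nat.prime_two).1 h)

lemma sq_not_dvd_factorial {m r : ℕ} (hr : r.Prime) (h : m < 2 * r) : ¬ r ^ 2 ∣ m.factorial := by
  haveI : Fact r.Prime := ⟨hr⟩
  rw [padicValNat_dvd_iff_le m.factorial_ne_zero, not_le]
  have hlog : Nat.log r m < 2 := by
    refine Nat.log_lt_of_lt_pow' (by norm_num) ?_
    calc m < 2 * r := h
      _ ≤ r ^ 2 := by rw [sq]; exact Nat.mul_le_mul_right r hr.two_le
  rw [padicValNat_factorial hlog, show Finset.Ico 1 2 = ({1} : Finset ℕ) from rfl,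
    Finset.sum_singleton, pow_one]
  exact (Nat.div_lt_iff_lt_mul hr.pos).2 (by linarith)

lemma exists_cycleType_replicate {m r j : ℕ} (hr : 2 ≤ r) (hj : j * r ≤ m) :
    ∃ σ : Perm (Fin m), σ.cycleType = Multiset.replicate j r := by
  refine (Perm.exists_with_cycleType_iff _).2 ⟨by simpa [Multiset.sum_replicate] using hj, fun a ha => ?_⟩
  rw [Multiset.eq_of_mem_replicate ha]; exact hr

/-- A permutation with `j = m / r` cycles of length `r` stabilises no set whose size has too large
a last digit. -/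
theorem not_smul_eq_of_cycleType {m r : ℕ} (hr : r.Prime) {y : Perm (Fin m)}
    (hy : y.cycleType = Multiset.replicate (m / r) r) {S : Finset (Fin m)}
    (hS : m % r < S.card % r) : y • S ≠ S := by
  intro hfix
  have hmem : ∀ x, y x ∈ S ↔ x ∈ S := fun x => by
    rw [← Perm.smul_def]
    nth_rw 1 [← hfix]
    exact Finset.smul_mem_smul_finset_iff y
  set q := y.subtypePerm hmem with hq
  have hsupp : r ∣ q.support.card := by
    rw [← Perm.sum_cycleType]
    refine Multiset.dvd_sum fun l hl => ?_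
    have hyr : y ^ r = 1 := by
      rcases Nat.eq_zero_or_pos (m / r) with h0 | h0
      · rw [h0, Multiset.replicate_zero, Perm.cycleType_eq_zero] at hy
        rw [hy, one_pow]
      · refine orderOf_dvd_iff_pow_eq_one.1 ?_
        rw [← Perm.lcm_cycleType, hy]
        exact Multiset.lcm_dvd.2 fun b hb => by rw [Multiset.eq_of_mem_replicate hb]
    have hqr : q ^ r = 1 := by
      ext x
      simp [hq, Perm.subtypePerm_pow, hyr]
    have h1 := (Perm.dvd_of_mem_cycleType hl).trans (orderOf_dvd_of_pow_eq_one hqr)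
    rcases hr.eq_one_or_self_of_dvd l h1 with h | h
    · exact absurd h (Perm.one_lt_of_mem_cycleType hl).ne'
    · exact h ▸ dvd_rfl
  have hqS : q.support.map (Function.Embedding.subtype (fun x => x ∈ S)) = S ∩ y.support := by
    ext x
    simp [hq, and_comm]
  have hcard : q.support.card = (S ∩ y.support).card := by rw [← hqS, Finset.card_map]
  have hfixle : (S \ y.support).card ≤ m % r := by
    refine (Finset.card_le_card (t := y.supportᶜ) fun x hx => ?_).trans ?_
    · simp only [Finset.mem_sdiff] at hx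
      exact Finset.mem_compl.2 hx.2
    · rw [Finset.card_compl, Fintype.card_fin, ← Perm.sum_cycleType, hy, Multiset.sum_replicate,
        smul_eq_mul]
      have := Nat.div_add_mod m r
      rw [mul_comm r] at this
      omega
  obtain ⟨i, hi⟩ := hsupp
  rw [hcard] at hi
  have hsplit := Finset.card_inter_add_card_sdiff S y.support
  rw [← hsplit, hi, Nat.mul_add_mod] at hS
  exact absurd hS (not_lt.2 ((Nat.mod_le _ _).trans hfixle))

variable {G : Type*} [Group G] [Finite G] {Ω : Type*} [MulAction G Ω] [Finite Ω]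

/-- The case where the point stabiliser is transitive on the `m` letters. -/
theorem derangement_of_transitive {m : ℕ} (hm : 5 ≤ m) (h6 : m ≠ 6) (φ : G →* Perm (Fin m))
    (hφ : Function.Injective φ) (hA : alternatingGroup (Fin m) ≤ φ.range) (a : Ω)
    [IsPretransitive G Ω] (hnot : ¬ alternatingGroup (Fin m) ≤ (stabilizer G a).map φ)
    (htr : IsPretransitive ((stabilizer G a).map φ) (Fin m))
    (r : ℕ) (hr : r.Prime) (hrd : r ∣ Nat.card Ω)
    (hmax : ∀ s : ℕ, s.Prime → s ∣ Nat.card Ω → s ≤ r) :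
    ∃ g : G, orderOf g = r ∧ ∀ ω : Ω, g • ω ≠ ω := by
  haveI : Fact r.Prime := ⟨hr⟩
  obtain ⟨s, hs, h2s, hsm, hnd⟩ := exists_prime_not_dvd hm h6 htr hnot
  rw [Subgroup.card_map_of_injective hφ] at hnd
  have hcard : Nat.card (stabilizer G a) * Nat.card Ω = Nat.card G := by
    rw [← index_stabilizer_of_transitive G a, Subgroup.card_mul_index]
  have hGm : Nat.card G ∣ m.factorial := by
    rw [Nat.card_congr (MonoidHom.ofInjective hφ).toEquiv]
    refine (Subgroup.card_subgroup_dvd_card _).trans ?_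
    rw [Nat.card_perm, Nat.card_fin]
  have hsG : s ∣ Nat.card G := by
    rw [Nat.card_congr (MonoidHom.ofInjective hφ).toEquiv]
    exact (dvd_card_alternating hs (by omega) hsm).trans (Subgroup.card_dvd_of_le hA)
  rw [← hcard] at hsG
  have hsr := hmax s hs ((hs.dvd_mul.1 hsG).resolve_left hnd)
  have hrG : r ∣ Nat.card G := hcard ▸ Dvd.dvd.mul_left hrd _
  have hrH : ¬ r ∣ Nat.card (stabilizer G a) := fun h =>
    sq_not_dvd_factorial hr (by omega) ((by rw [sq, ← hcard]; exact mul_dvd_mul h hrd : r ^ 2 ∣ Nat.card G).trans hGm)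
  obtain ⟨g, hg⟩ := exists_prime_orderOf_dvd_card' r hrG
  refine ⟨g, hg, fun ω hω => hrH ?_⟩
  obtain ⟨x, hx⟩ := exists_smul_eq G a ω
  have hmem : x⁻¹ * g * x ∈ stabilizer G a := by
    rw [mem_stabilizer_iff, mul_smul, mul_smul, hx, hω, inv_smul_eq_iff, hx]
  have ho : orderOf (⟨_, hmem⟩ : stabilizer G a) = r := by
    rw [← Subgroup.orderOf_coe]
    change orderOf (x⁻¹ * g * x) = r
    rw [show x⁻¹ * g * x = MulAut.conj x⁻¹ g by simp, MulEquiv.orderOf_eq, hg]
  exact ho ▸ orderOf_dvd_natCard _

/-- The case where the point stabiliser is intransitive on the `m` letters. -/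
theorem derangement_of_intransitive {m : ℕ} (hm : 5 ≤ m) (φ : G →* Perm (Fin m))
    (hφ : Function.Injective φ) (hA : alternatingGroup (Fin m) ≤ φ.range) (a : Ω)
    [IsPretransitive G Ω] (hmaxl : IsCoatom (stabilizer G a))
    (htr : ¬ IsPretransitive ((stabilizer G a).map φ) (Fin m))
    (r : ℕ) (hr : r.Prime) (hrd : r ∣ Nat.card Ω)
    (hmax : ∀ s : ℕ, s.Prime → s ∣ Nat.card Ω → s ≤ r) :
    ∃ g : G, orderOf g = r ∧ ∀ ω : Ω, g • ω ≠ ω := by
  classical
  set K := (stabilizer G a).map φ with hK
  obtain ⟨S, hS0, hS2, hKS⟩ : ∃ S : Finset (Fin m), 1 ≤ S.card ∧ 2 * S.card ≤ m ∧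
      ∀ g ∈ K, g • S = S := by
    obtain ⟨x, y, hxy⟩ : ∃ x y : Fin m, y ∉ orbit K x := by
      by_contra hc
      push Not at hc
      exact htr ⟨fun x y => hc x y⟩
    set S := (orbit K x).toFinset with hSdef
    have hinv : ∀ g ∈ K, g • S = S := by
      intro g hg
      refine Finset.eq_of_subset_of_card_le (fun z hz => ?_) (by simp)
      obtain ⟨w, hw, rfl⟩ := Finset.mem_smul_finset.1 hz
      rw [hSdef, Set.mem_toFinset] at hw ⊢
      exact mem_orbit_of_mem_orbit (⟨g, hg⟩ : K) hw
    have h1 : 1 ≤ S.card := Finset.card_pos.2 ⟨x, by simp [hSdef]⟩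
    have h2 : 1 ≤ Sᶜ.card := Finset.card_pos.2 ⟨y, by simp [hSdef, hxy]⟩
    rw [Finset.card_compl, Fintype.card_fin] at h2
    by_cases h : 2 * S.card ≤ m
    · exact ⟨S, h1, h, hinv⟩
    · refine ⟨Sᶜ, by rw [Finset.card_compl, Fintype.card_fin]; omega,
        by rw [Finset.card_compl, Fintype.card_fin]; omega, fun g hg => ?_⟩
      refine Finset.eq_of_subset_of_card_le (fun z hz => ?_) (by simp)
      obtain ⟨w, hw, rfl⟩ := Finset.mem_smul_finset.1 hz
      rw [Finset.mem_compl] at hw ⊢
      intro hc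
      nth_rw 1 [← hinv g hg] at hc
      exact hw ((Finset.smul_mem_smul_finset_iff g).1 hc)
  set k := S.card with hk
  letI : MulAction G (Set.powersetCard (Fin m) k) := MulAction.compHom _ φ
  let S₀ : Set.powersetCard (Fin m) k := ⟨S, by simp [Set.powersetCard, hk]⟩
  have hsm : ∀ (g : G) (T : Set.powersetCard (Fin m) k),
      ((g • T : Set.powersetCard (Fin m) k) : Finset (Fin m)) = φ g • (T : Finset (Fin m)) :=
    fun g T => rfl
  haveI hpt : IsPretransitive G (Set.powersetCard (Fin m) k) := by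
    haveI := Set.powersetCard.isPretransitive_alternatingGroup (α := Fin m) (n := k)
      (by simp; omega)
    refine ⟨fun T U => ?_⟩
    obtain ⟨⟨σ, hσ⟩, hσT⟩ := exists_smul_eq (alternatingGroup (Fin m)) T U
    obtain ⟨g, rfl⟩ := hA hσ
    exact ⟨g, Subtype.ext ((hsm g T).trans (congrArg Subtype.val hσT))⟩
  have hHle : stabilizer G a ≤ stabilizer G S₀ := fun g hg =>
    Subtype.ext ((hsm g S₀).trans (hKS _ ⟨g, hg, rfl⟩))
  have hne : stabilizer G S₀ ≠ ⊤ := by
    intro htop
    have h1 : Nat.card (Set.powersetCard (Fin m) k) = 1 := by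
      rw [← index_stabilizer_of_transitive G S₀, htop, Subgroup.index_top]
    rw [Set.powersetCard.card, Nat.card_fin] at h1
    rcases Nat.choose_eq_one_iff.1 h1 with h | h <;> omega
  have hHeq : stabilizer G a = stabilizer G S₀ := by
    rcases eq_or_lt_of_le hHle with h | h
    · exact h
    · exact absurd (hmaxl.2 _ h) hne
  have hΩ : Nat.card Ω = m.choose k := by
    rw [← index_stabilizer_of_transitive G a, hHeq, index_stabilizer_of_transitive G S₀,
      Set.powersetCard.card, Nat.card_fin]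
  rw [hΩ] at hrd hmax
  obtain ⟨q, hq, hqd, hqbig⟩ := PrimeBounds.exists_prime_dvd_choose hm hS0 hS2
  have hqr := hmax q hq hqd
  have hbig : k < r ∨ m < r * r :=
    hqbig.imp (fun h => lt_of_lt_of_le h hqr) fun h => lt_of_lt_of_le h (Nat.mul_le_mul hqr hqr)
  have hdig := PrimeBounds.mod_lt_of_dvd_choose hr (by omega) hrd hbig
  have hrm : r ≤ m := hr.dvd_factorial.1
    (hrd.trans (Dvd.intro _ (by rw [← mul_assoc]; exact Nat.choose_mul_factorial_mul_factorial (show k ≤ m by omega))))
  obtain ⟨σ, hσ⟩ := exists_cycleType_replicate (m := m) (j := m / r) hr.two_le (Nat.div_mul_le_self m r)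
  have hj : 0 < m / r := Nat.div_pos hrm hr.pos
  have heven : σ ∈ alternatingGroup (Fin m) := by
    rw [Perm.mem_alternatingGroup, Perm.sign_of_cycleType, hσ]
    simp only [Multiset.sum_replicate, Multiset.card_replicate, smul_eq_mul]
    refine Even.neg_one_pow ?_
    rcases hr.eq_two_or_odd' with h2 | hodd
    · subst h2
      have hk1 : k = 1 := by omega
      rw [hk1, Nat.choose_one_right] at hmax
      have hmpow := Nat.eq_prime_pow_of_unique_prime_dvd (show m ≠ 0 by omega) (p := 2)
        fun {d} hd hdm => le_antisymm (hmax d hd hdm) hd.two_le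
      set l := m.primeFactorsList.length
      rcases l with - | - | - | l <;> simp only [pow_succ, pow_zero] at hmpow <;> try omega
      rw [hmpow, show 2 ^ l * 2 * 2 * 2 / 2 = 2 * (2 ^ l * 2) by omega]
      exact ⟨3 * (2 ^ l * 2), by ring⟩
    · obtain ⟨i, hi⟩ := hodd
      exact ⟨m / r * (i + 1), by rw [hi]; ring⟩
  obtain ⟨g, hg⟩ := hA heven
  refine ⟨g, ?_, fun ω hω => ?_⟩
  · rw [← orderOf_injective φ hφ, hg, ← Perm.lcm_cycleType, hσ]
    refine Nat.dvd_antisymm (Multiset.lcm_dvd.2 fun b hb => by rw [Multiset.eq_of_mem_replicate hb])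
      (Multiset.dvd_lcm (Multiset.mem_replicate.2 ⟨hj.ne', rfl⟩))
  · obtain ⟨x, hx⟩ := exists_smul_eq G a ω
    have hmem : x⁻¹ * g * x ∈ stabilizer G S₀ := by
      rw [← hHeq, mem_stabilizer_iff, mul_smul, mul_smul, hx, hω, inv_smul_eq_iff, hx]
    have h := congrArg Subtype.val (mem_stabilizer_iff.1 hmem)
    rw [hsm] at h
    refine not_smul_eq_of_cycleType hr (y := φ (x⁻¹ * g * x)) ?_ (hk ▸ hdig) h
    have e := Perm.cycleType_conj (σ := σ) (τ := (φ x)⁻¹)
    rw [inv_inv, hσ] at e
    rw [map_mul, map_mul, map_inv, hg]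
    exact e

lemma six_le_index {K : Subgroup (alternatingGroup (Fin 6))} (hK : K ≠ ⊤) : 6 ≤ K.index := by
  have hcard : Nat.card (alternatingGroup (Fin 6)) = 360 := by
    rw [Nat.card_eq_fintype_card, card_alternatingGroup, Fintype.card_fin]; rfl
  haveI : IsSimpleGroup (alternatingGroup (Fin 6)) := alternatingGroup.isSimpleGroup (by simp)
  have hcore : K.normalCore = ⊥ :=
    (K.normalCore_normal.eq_bot_or_eq_top).resolve_right fun h => hK (top_le_iff.1 (h ▸ K.normalCore_le))
  have hinj : Function.Injective (MulAction.toPermHom (alternatingGroup (Fin 6))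
      (alternatingGroup (Fin 6) ⧸ K)) := by
    rw [← MonoidHom.ker_eq_bot_iff, ← Subgroup.normalCore_eq_ker, hcore]
  have h := Nat.card_le_card_of_injective _ hinj
  rw [hcard, Nat.card_perm] at h
  by_contra hc
  have : (Nat.card (alternatingGroup (Fin 6) ⧸ K)).factorial ≤ (5 : ℕ).factorial :=
    Nat.factorial_le (by rw [← Subgroup.index]; omega)
  rw [show (5 : ℕ).factorial = 120 from rfl] at this
  omega

/-- The degree six case, inside `A₆`. -/
theorem alternating_six {K : Subgroup (alternatingGroup (Fin 6))} (hK : K ≠ ⊤) (r : ℕ) (hr : r.Prime)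
    (hrd : r ∣ K.index) (hmax : ∀ s : ℕ, s.Prime → s ∣ K.index → s ≤ r) :
    ∃ γ : alternatingGroup (Fin 6), orderOf γ = r ∧ ∀ t : alternatingGroup (Fin 6), t * γ * t⁻¹ ∉ K := by
  haveI : Fact r.Prime := ⟨hr⟩
  have hcard : Nat.card (alternatingGroup (Fin 6)) = 360 := by
    rw [Nat.card_eq_fintype_card, card_alternatingGroup, Fintype.card_fin]; rfl
  have hmul : Nat.card K * K.index = 360 := by rw [Subgroup.card_mul_index, hcard]
  by_cases hrK : r ∣ Nat.card K
  swap
  · obtain ⟨γ, hγ⟩ := exists_prime_orderOf_dvd_card' (G := alternatingGroup (Fin 6)) r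
      (by rw [hcard, ← hmul]; exact Dvd.dvd.mul_left hrd _)
    refine ⟨γ, hγ, fun t ht => hrK ?_⟩
    have : orderOf (⟨_, ht⟩ : K) = r := by
      rw [← Subgroup.orderOf_coe]
      change orderOf (t * γ * t⁻¹) = r
      rw [← MulAut.conj_apply, MulEquiv.orderOf_eq, hγ]
    exact this ▸ orderOf_dvd_natCard _
  have h6 := six_le_index hK
  have hr2 : r ^ 2 ∣ 360 := by rw [sq, ← hmul]; exact mul_dvd_mul hrK hrd
  have hr7 : r ≤ 18 := by
    have := Nat.le_of_dvd (by norm_num) hr2
    nlinarith
  have hr23 : r = 2 ∨ r = 3 := by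
    interval_cases r <;> first | omega | norm_num at *
  rcases hr23 with rfl | rfl
  · -- the index is a power of two at least six, so `K` has odd order
    exfalso
    have h3 : ¬ 3 ∣ K.index := fun h => absurd (hmax 3 (by norm_num) h) (by norm_num)
    have h5 : ¬ 5 ∣ K.index := fun h => absurd (hmax 5 (by norm_num) h) (by norm_num)
    have hidx : K.index ∣ 8 := by
      have h : K.index ∣ 360 := hmul ▸ Dvd.intro_left _ rfl
      have hc3 : Nat.Coprime K.index (3 ^ 2) :=
        ((Nat.prime_three.coprime_iff_not_dvd.2 h3).symm).pow_right 2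
      have hc5 : Nat.Coprime K.index 5 :=
        ((Nat.Prime.coprime_iff_not_dvd (by norm_num)).2 h5).symm
      have hc : Nat.Coprime K.index 45 := hc3.mul_right hc5
      exact hc.dvd_of_dvd_mul_right (show K.index ∣ 8 * 45 from h)
    have h8 : K.index = 8 := by
      have := Nat.le_of_dvd (by norm_num) hidx
      interval_cases h : K.index <;> omega
    rw [h8] at hmul
    omega
  · have h5 : ¬ 5 ∣ K.index := fun h => absurd (hmax 5 (by norm_num) h) (by norm_num)
    have h9 : ¬ 9 ∣ Nat.card K := fun h => by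
      have : 27 ∣ 360 := hmul ▸ mul_dvd_mul h hrd
      norm_num at this
    obtain ⟨u, hu⟩ := exists_prime_orderOf_dvd_card' 3 hrK
    have hcu : ∀ w : K, orderOf w = 3 →
        ((w : alternatingGroup (Fin 6)) : Perm (Fin 6)).cycleType =
          ((u : alternatingGroup (Fin 6)) : Perm (Fin 6)).cycleType := by
      intro w hw
      have hfac : (Nat.card K).factorization 3 = 1 := by
        refine le_antisymm ?_ (Nat.prime_three.factorization_pos_of_dvd Nat.card_pos.ne' hrK)
        by_contra hlt
        exact h9 ((show 3 ^ 2 ∣ Nat.card K from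
          (Nat.prime_three.pow_dvd_iff_le_factorization Nat.card_pos.ne').2 (by omega)))
      obtain ⟨f, hf⟩ := exists_smul_eq K
        (Sylow.ofCard (Subgroup.zpowers w) (by rw [Nat.card_zpowers, hw, hfac, pow_one]))
        (Sylow.ofCard (Subgroup.zpowers u) (by rw [Nat.card_zpowers, hu, hfac, pow_one]))
      have hmem : f * w * f⁻¹ ∈ Subgroup.zpowers u := by
        have h' := congrArg (fun P : Sylow 3 K => (P : Subgroup K)) hf
        simp only [Sylow.coe_subgroup_smul, Sylow.coe_ofCard] at h'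
        rw [← h']
        exact ⟨w, Subgroup.mem_zpowers _, rfl⟩
      obtain ⟨i, hi⟩ := mem_powers_iff_mem_zpowers.2 hmem
      have hi' : u ^ (i % 3) = f * w * f⁻¹ := by rw [← hu, pow_mod_orderOf]; exact hi
      have e := Perm.cycleType_conj (σ := ((w : alternatingGroup (Fin 6)) : Perm (Fin 6)))
        (τ := ((f : alternatingGroup (Fin 6)) : Perm (Fin 6)))
      rw [← e]
      have hi'' := congrArg (fun z : K => ((z : alternatingGroup (Fin 6)) : Perm (Fin 6))) hi'
      simp only [Subgroup.coe_mul, Subgroup.coe_inv, SubmonoidClass.coe_pow] at hi''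
      rw [← hi'']
      rcases (show i % 3 = 0 ∨ i % 3 = 1 ∨ i % 3 = 2 by omega) with h | h | h
      · exfalso
        rw [h, pow_zero] at hi'
        have : w = 1 := by
          calc w = f⁻¹ * (f * w * f⁻¹) * f := by group
            _ = 1 := by rw [← hi']; group
        rw [this, orderOf_one] at hw
        omega
      · rw [h, pow_one]
      · have hu3 : ((u : alternatingGroup (Fin 6)) : Perm (Fin 6)) ^ 3 = 1 := by
          rw [← hu, ← Subgroup.coe_pow, ← Subgroup.coe_pow, pow_orderOf_eq_one]; rfl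
        rw [h, show ((u : alternatingGroup (Fin 6)) : Perm (Fin 6)) ^ 2 =
          ((u : alternatingGroup (Fin 6)) : Perm (Fin 6))⁻¹ from
          eq_inv_of_mul_eq_one_left (by rw [← pow_succ, hu3]), Perm.cycleType_inv]
    obtain ⟨j, hj, hjne⟩ : ∃ j, (j = 1 ∨ j = 2) ∧
        ((u : alternatingGroup (Fin 6)) : Perm (Fin 6)).cycleType ≠ Multiset.replicate j 3 := by
      by_cases h : ((u : alternatingGroup (Fin 6)) : Perm (Fin 6)).cycleType = Multiset.replicate 1 3
      · exact ⟨2, Or.inr rfl, by rw [h]; decide⟩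
      · exact ⟨1, Or.inl rfl, h⟩
    obtain ⟨σ, hσ⟩ := exists_cycleType_replicate (m := 6) (r := 3) (j := j) (by norm_num) (by omega)
    have heven : σ ∈ alternatingGroup (Fin 6) := by
      rw [Perm.mem_alternatingGroup, Perm.sign_of_cycleType, hσ]
      rcases hj with rfl | rfl <;> decide
    refine ⟨⟨σ, heven⟩, ?_, fun t ht => hjne ?_⟩
    · rw [← Subgroup.orderOf_coe]
      change orderOf σ = 3
      rw [← Perm.lcm_cycleType, hσ]
      rcases hj with rfl | rfl <;> decide
    · have ho : orderOf (⟨_, ht⟩ : K) = 3 := by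
        rw [← Subgroup.orderOf_coe]
        change orderOf (t * (⟨σ, heven⟩ : alternatingGroup (Fin 6)) * t⁻¹) = 3
        rw [← MulAut.conj_apply, MulEquiv.orderOf_eq, ← Subgroup.orderOf_coe]
        change orderOf σ = 3
        rw [← Perm.lcm_cycleType, hσ]
        rcases hj with rfl | rfl <;> decide
      rw [← hcu _ ho]
      simp only [Subgroup.coe_mul, Subgroup.coe_inv, Perm.cycleType_conj, hσ]

end Cfsg.Agent.PermDerange
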