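import Mathlib.NumberTheory.Bertrand
import Mathlib.Data.Nat.Choose.Lucas
import Mathlib.Data.Nat.Choose.Factorization
import Mathlib.Tactic

/-! Elementary prime bounds: a weak form of the Sylvester–Schur theorem, and a prime in `(m/2, m-3]`. -/

set_option autoImplicit false
set_option linter.style.haveILetI false

namespace Cfsg.Agent.PrimeBounds

open Finset Nat

lemma pow_mul_descFactorial_le {s m : ℕ} (hsm : s ≤ m) :
    ∀ i ≤ s, m ^ i * s.descFactorial i ≤ s ^ i * m.descFactorial i := by
  intro i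
  induction i with
  | zero => simp
  | succ i ih =>
    intro hi
    rw [descFactorial_succ, descFactorial_succ, pow_succ, pow_succ]
    have h1 : m * (s - i) ≤ s * (m - i) := by
      rw [Nat.mul_sub, Nat.mul_sub, mul_comm m s]
      exact Nat.sub_le_sub_left (Nat.mul_le_mul_right i hsm) _
    calc m ^ i * m * ((s - i) * s.descFactorial i)
        = (m * (s - i)) * (m ^ i * s.descFactorial i) := by ring
      _ ≤ (s * (m - i)) * (s ^ i * m.descFactorial i) := Nat.mul_le_mul h1 (ih (by omega))
      _ = s ^ i * s * ((m - i) * m.descFactorial i) := by ring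

lemma pow_le_choose_mul_pow {s m : ℕ} (hsm : s ≤ m) : m ^ s ≤ m.choose s * s ^ s := by
  have h := pow_mul_descFactorial_le hsm s le_rfl
  rw [descFactorial_self, descFactorial_eq_factorial_mul_choose] at h
  refine Nat.le_of_mul_le_mul_right ?_ s.factorial_pos
  calc m ^ s * s ! ≤ s ^ s * (s ! * m.choose s) := h
    _ = m.choose s * s ^ s * s ! := by ring

lemma choose_mono_half {m s k : ℕ} (hsk : s ≤ k) (hk : 2 * k ≤ m) : m.choose s ≤ m.choose k := by
  induction k, hsk using Nat.le_induction with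
  | base => exact le_rfl
  | succ k _ ih =>
    exact (ih (by omega)).trans (Nat.choose_le_succ_of_lt_half_left (by omega))

/-- the primes at most `s` -/
def primesLe (s : ℕ) : Finset ℕ := (Finset.range (s + 1)).filter Nat.Prime

lemma primesLe_succ (s : ℕ) :
    (primesLe (s + 1)).card = (primesLe s).card + if (s + 1).Prime then 1 else 0 := by
  unfold primesLe
  rw [Finset.range_add_one, Finset.filter_insert]
  split <;> rename_i h
  · rw [Finset.card_insert_of_notMem (by simp)]
  · rw [add_zero]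

lemma two_mul_card_primesLe_lt : ∀ s, 9 ≤ s → 2 * (primesLe s).card < s := by
  intro s
  induction s using Nat.twoStepInduction with
  | zero => omega
  | one => omega
  | more n ih _ =>
    intro hn
    rcases (show n + 2 = 9 ∨ n + 2 = 10 ∨ 9 ≤ n by omega) with h | h | h
    · obtain rfl : n = 7 := by omega
      decide
    · obtain rfl : n = 8 := by omega
      decide
    · have := ih h
      rw [show n + 2 = n + 1 + 1 by omega, primesLe_succ, primesLe_succ]
      rcases Nat.even_or_odd n with he | ho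
      · have : ¬ (n + 1 + 1).Prime := fun hp =>
          absurd (hp.even_iff.1 (by grind)) (by omega)
        rw [if_neg this]; split <;> omega
      · have : ¬ (n + 1).Prime := fun hp =>
          absurd (hp.even_iff.1 (by grind)) (by omega)
        rw [if_neg this]; split <;> omega

lemma card_primesLe_small :
    (primesLe 1).card = 0 ∧ (primesLe 2).card = 1 ∧ (primesLe 3).card = 2 ∧ (primesLe 4).card = 2 ∧
    (primesLe 5).card = 3 ∧ (primesLe 6).card = 3 ∧ (primesLe 7).card = 4 ∧ (primesLe 8).card = 4 := by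
  decide

lemma choose_gt_small {m s π : ℕ} (h3 : 4 ^ s * s.factorial < 3 ^ s * (s * s) ^ (s - π))
    (hs : 4 * (s - 1) ≤ s * s) (hπ : π ≤ s) (hm : s * s ≤ m) (hs1 : 1 ≤ s) :
    m ^ π < m.choose s := by
  have hd : (m + 1 - s) ^ s ≤ s.factorial * m.choose s := by
    rw [← descFactorial_eq_factorial_mul_choose]
    exact pow_sub_le_descFactorial m s
  have h34 : 3 * m ≤ 4 * (m + 1 - s) := by omega
  by_contra hc
  rw [not_lt] at hc
  have h : 3 ^ s * m ^ s ≤ 4 ^ s * (s.factorial * m ^ π) := by
    rw [← mul_pow]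
    refine (Nat.pow_le_pow_left h34 s).trans ?_
    rw [mul_pow]
    exact Nat.mul_le_mul_left _ (hd.trans (Nat.mul_le_mul_left _ hc))
  have e : m ^ s = m ^ (s - π) * m ^ π := by rw [← pow_add, Nat.sub_add_cancel hπ]
  rw [e, ← mul_assoc, ← mul_assoc] at h
  have hmpos : 0 < m ^ π := pow_pos (lt_of_lt_of_le (Nat.mul_pos hs1 hs1) hm) _
  have h' := Nat.le_of_mul_le_mul_right h hmpos
  have : 3 ^ s * (s * s) ^ (s - π) ≤ 3 ^ s * m ^ (s - π) :=
    Nat.mul_le_mul_left _ (Nat.pow_le_pow_left hm _)
  omega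

lemma pow_card_lt_choose {m k s : ℕ} (hm : 5 ≤ m) (hs1 : 1 ≤ s) (hsk : s ≤ k) (hk : 2 * k ≤ m)
    (hss : s * s ≤ m) : m ^ (primesLe s).card < m.choose k := by
  refine lt_of_lt_of_le ?_ (choose_mono_half hsk hk)
  obtain ⟨p1, p2, p3, p4, p5, p6, p7, p8⟩ := card_primesLe_small
  rcases Nat.lt_or_ge s 9 with h9 | h9
  · interval_cases s
    · rw [p1, pow_zero, Nat.choose_one_right]; omega
    · rw [p2, pow_one, Nat.choose_two_right]
      have : 4 * m ≤ m * (m - 1) := by rw [mul_comm 4]; exact Nat.mul_le_mul_left _ (by omega)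
      omega
    · rw [p3]
      have h := descFactorial_eq_factorial_mul_choose m 3
      have e : m.descFactorial 3 = (m - 2) * ((m - 1) * m) := by simp [descFactorial]
      rw [e, show (3 : ℕ).factorial = 6 from rfl] at h
      obtain ⟨j, rfl⟩ : ∃ j, m = j + 9 := ⟨m - 9, by omega⟩
      rw [show j + 9 - 2 = j + 7 by omega, show j + 9 - 1 = j + 8 by omega] at h
      nlinarith
    · rw [p4]; exact choose_gt_small (by decide) (by decide) (by decide) hss hs1
    · rw [p5]; exact choose_gt_small (by decide) (by decide) (by decide) hss hs1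
    · rw [p6]; exact choose_gt_small (by decide) (by decide) (by decide) hss hs1
    · rw [p7]; exact choose_gt_small (by decide) (by decide) (by decide) hss hs1
    · rw [p8]; exact choose_gt_small (by decide) (by decide) (by decide) hss hs1
  · have hπ := two_mul_card_primesLe_lt s h9
    set π := (primesLe s).card
    by_contra hc
    rw [not_lt] at hc
    have h : m ^ s ≤ m ^ π * s ^ s :=
      (pow_le_choose_mul_pow (by omega)).trans (Nat.mul_le_mul_right _ hc)
    rw [show m ^ s = m ^ π * m ^ (s - π) by rw [← pow_add]; congr 1; omega] at h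
    have h' := Nat.le_of_mul_le_mul_left h (pow_pos (by omega) _)
    have h2 : (s ^ 2) ^ (s - π) ≤ s ^ s := le_trans (Nat.pow_le_pow_left (by nlinarith) _) h'
    rw [← pow_mul, Nat.pow_le_pow_iff_right (by omega)] at h2
    omega

/-- Weak Sylvester–Schur: `C(m,k)` has a prime divisor exceeding `k` or `√m`. -/
theorem exists_prime_dvd_choose {m k : ℕ} (hm : 5 ≤ m) (hk1 : 1 ≤ k) (hk : 2 * k ≤ m) :
    ∃ q : ℕ, q.Prime ∧ q ∣ m.choose k ∧ (k < q ∨ m < q * q) := by
  set s := min k (Nat.sqrt m) with hs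
  have hs1 : 1 ≤ s := le_min hk1 (Nat.le_sqrt.2 (by omega))
  have hss : s * s ≤ m := Nat.le_sqrt.1 (min_le_right _ _)
  by_contra hc
  push Not at hc
  have hpos : m.choose k ≠ 0 := (Nat.choose_pos (by omega)).ne'
  have hsub : (m.choose k).primeFactors ⊆ primesLe s := by
    intro q hq
    obtain ⟨hqp, hqd, -⟩ := Nat.mem_primeFactors.1 hq
    obtain ⟨h1, h2⟩ := hc q hqp hqd
    simp only [primesLe, Finset.mem_filter, Finset.mem_range, Nat.lt_succ_iff]
    exact ⟨le_min h1 (Nat.le_sqrt.2 h2), hqp⟩
  have hle : m.choose k ≤ m ^ (primesLe s).card := by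
    conv_lhs => rw [← Nat.prod_factorization_pow_eq_self hpos]
    rw [Finsupp.prod, Nat.support_factorization]
    refine (Finset.prod_le_pow_card _ _ m fun q _ => Nat.pow_factorization_choose_le (by omega)).trans ?_
    exact Nat.pow_le_pow_right (by omega) (Finset.card_le_card hsub)
  exact absurd hle (not_le.2 (pow_card_lt_choose hm hs1 (min_le_left _ _) hk hss))

/-- If the prime `r` divides `C(m,k)` and exceeds `k` or `√m`, the last digits force a carry. -/
theorem mod_lt_of_dvd_choose {m k r : ℕ} (hr : r.Prime) (hkm : k ≤ m) (hd : r ∣ m.choose k)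
    (hbig : k < r ∨ m < r * r) : m % r < k % r := by
  haveI : Fact r.Prime := ⟨hr⟩
  by_contra hc
  rw [not_lt] at hc
  have h := (Choose.choose_modEq_choose_mod_mul_choose_div_nat (n := m) (k := k) (p := r)).symm
  have h' : r ∣ (m % r).choose (k % r) * (m / r).choose (k / r) :=
    (Nat.modEq_zero_iff_dvd).1 (h.trans (Nat.modEq_zero_iff_dvd.2 hd))
  rcases hr.dvd_mul.1 h' with h1 | h1
  · have hlt := Nat.mod_lt m hr.pos
    have : r ∣ (m % r).factorial := by
      rw [← Nat.choose_mul_factorial_mul_factorial hc]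
      exact Dvd.dvd.mul_right (Dvd.dvd.mul_right h1 _) _
    exact absurd ((hr.dvd_factorial).1 this) (not_le.2 hlt)
  · rcases hbig with hk | hm
    · rw [Nat.div_eq_of_lt hk, Nat.choose_zero_right] at h1
      exact hr.one_lt.ne' (Nat.dvd_one.1 h1)
    · have hlt : m / r < r := Nat.div_lt_of_lt_mul hm
      have hle : k / r ≤ m / r := Nat.div_le_div_right hkm
      have : r ∣ (m / r).factorial := by
        rw [← Nat.choose_mul_factorial_mul_factorial hle]
        exact Dvd.dvd.mul_right (Dvd.dvd.mul_right h1 _) _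
      exact absurd ((hr.dvd_factorial).1 this) (not_le.2 hlt)

lemma eight_mul_le_two_pow : ∀ j, 8 ≤ j → 8 * j + 8 ≤ 2 ^ j := by
  intro j hj
  induction j, hj using Nat.le_induction with
  | base => norm_num
  | succ j hj ih => rw [pow_succ]; omega

lemma main_inequality {n : ℕ} (hn : 2048 ≤ n) :
    n * ((2 * n) ^ Nat.sqrt (2 * n) * 4 ^ (2 * n / 3) * (2 * n) ^ 3) ≤ 4 ^ n := by
  set t := Nat.sqrt (2 * n) with ht
  have ht1 : t * t ≤ 2 * n := Nat.sqrt_le _
  have ht2 : 2 * n < (t + 1) * (t + 1) := Nat.lt_succ_sqrt _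
  have ht64 : 64 ≤ t := Nat.le_sqrt.2 (by omega)
  set L := t / 8
  have hL : t + 1 ≤ 2 ^ L := le_trans (by omega) (eight_mul_le_two_pow L (by omega))
  have h2n : 2 * n ≤ 2 ^ (2 * L) := by
    rw [two_mul L, pow_add]; exact ht2.le.trans (Nat.mul_le_mul hL hL)
  have hexp : 2 * L * (t + 4) ≤ 2 * (n - 2 * n / 3) := by
    have h1 : 8 * L ≤ t := Nat.mul_div_le t 8
    have h2 : 8 * L * (t + 4) ≤ t * (t + 4) := Nat.mul_le_mul_right _ h1
    have h3 : 3 * (2 * n / 3) ≤ 2 * n := Nat.mul_div_le _ 3
    have h4 : 64 * t ≤ t * t := Nat.mul_le_mul_right t ht64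
    rw [Nat.mul_add t t 4] at h2
    rw [Nat.mul_assoc]
    rw [Nat.mul_assoc] at h2
    omega
  calc n * ((2 * n) ^ t * 4 ^ (2 * n / 3) * (2 * n) ^ 3)
      ≤ (2 * n) * ((2 * n) ^ t * 4 ^ (2 * n / 3) * (2 * n) ^ 3) :=
        Nat.mul_le_mul_right _ (by omega)
    _ = (2 * n) ^ (t + 4) * 4 ^ (2 * n / 3) := by ring
    _ ≤ 2 ^ (2 * (n - 2 * n / 3)) * 4 ^ (2 * n / 3) := by
        refine Nat.mul_le_mul_right _ ((Nat.pow_le_pow_left h2n _).trans ?_)
        rw [← pow_mul]
        exact Nat.pow_le_pow_right (by norm_num) hexp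
    _ = 4 ^ n := by
        rw [pow_mul, show (2 : ℕ) ^ 2 = 4 by norm_num, ← pow_add, Nat.sub_add_cancel (by omega)]

lemma centralBinom_le_few_primes {n : ℕ} (hn : 2 < n)
    (hfew : ((Finset.Ioc n (2 * n)).filter Nat.Prime).card ≤ 3) :
    centralBinom n ≤ (2 * n) ^ Nat.sqrt (2 * n) * 4 ^ (2 * n / 3) * (2 * n) ^ 3 := by
  set f : ℕ → ℕ := fun x => x ^ n.centralBinom.factorization x with hf
  set S : Finset ℕ := (Finset.range (2 * n + 1)).filter Nat.Prime with hS
  have hprod : centralBinom n = ∏ p ∈ S, f p := by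
    rw [hS, Finset.prod_filter_of_ne]
    · exact (n.prod_pow_factorization_centralBinom).symm
    · intro p _ h
      contrapose h
      simp only [hf, Nat.factorization_eq_zero_of_not_prime _ h, pow_zero]
  have hle : ∀ p, f p ≤ 2 * n := fun p => Nat.pow_factorization_choose_le (by omega)
  rw [hprod, ← Finset.prod_filter_mul_prod_filter_not S (fun p => p ≤ n)]
  refine Nat.mul_le_mul ?_ ?_
  · rw [← Finset.prod_filter_mul_prod_filter_not _ (fun p => p ≤ Nat.sqrt (2 * n))]
    refine Nat.mul_le_mul ?_ ?_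
    · refine (Finset.prod_le_pow_card _ _ _ fun p _ => hle p).trans ?_
      refine Nat.pow_le_pow_right (by omega) ?_
      refine (Finset.card_le_card (t := Finset.Icc 1 (Nat.sqrt (2 * n))) fun x hx => ?_).trans ?_
      · simp only [hS, Finset.mem_filter] at hx
        exact Finset.mem_Icc.2 ⟨hx.1.1.2.one_lt.le, hx.2⟩
      · simp
    · refine le_trans ?_ (primorial_le_four_pow (2 * n / 3))
      calc ∏ p ∈ ((S.filter fun p => p ≤ n).filter fun p => ¬ p ≤ Nat.sqrt (2 * n)), f p
          ≤ ∏ p ∈ ((S.filter fun p => p ≤ n).filter fun p => ¬ p ≤ Nat.sqrt (2 * n)),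
              (if p ≤ 2 * n / 3 then p else 1) := by
            refine Finset.prod_le_prod' fun p hp => ?_
            simp only [hS, Finset.mem_filter] at hp
            obtain ⟨⟨⟨-, hpp⟩, hpn⟩, hps⟩ := hp
            split <;> rename_i h
            · refine (Nat.pow_le_pow_right hpp.pos ?_).trans (pow_one p).le
              exact Nat.factorization_choose_le_one (Nat.sqrt_lt'.1 (not_le.1 hps))
            · simp only [hf]
              rw [Nat.factorization_centralBinom_of_two_mul_self_lt_three_mul (by omega) hpn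
                (by omega), pow_zero]
        _ ≤ primorial (2 * n / 3) := by
            rw [← Finset.prod_filter]
            refine Finset.prod_le_prod_of_subset_of_one_le' ?_ fun p hp _ => ?_
            · intro p hp
              simp only [hS, Finset.mem_filter, Finset.mem_range] at hp ⊢
              exact ⟨by omega, hp.1.1.1.2⟩
            · exact (Finset.mem_filter.1 hp).2.one_lt.le
  · refine (Finset.prod_le_pow_card _ _ _ fun p _ => hle p).trans ?_
    refine Nat.pow_le_pow_right (by omega) (le_trans (Finset.card_le_card fun p hp => ?_) hfew)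
    simp only [hS, Finset.mem_filter, Finset.mem_range, Finset.mem_Ioc] at hp ⊢
    exact ⟨⟨by omega, by omega⟩, hp.1.2⟩

/-- A prime in `(m/2, m-3]` for `m ≥ 8`. -/
theorem exists_prime_two_mul_gt {m : ℕ} (hm : 8 ≤ m) :
    ∃ s : ℕ, s.Prime ∧ m < 2 * s ∧ s + 3 ≤ m := by
  rcases Nat.lt_or_ge m 4096 with hlt | hge
  · have step : ∀ p : ℕ, p.Prime → p + 3 ≤ m → m < 2 * p → ∃ s : ℕ, s.Prime ∧ m < 2 * s ∧ s + 3 ≤ m :=
      fun p a b c => ⟨p, a, c, b⟩
    rcases (show (8 ≤ m ∧ m ≤ 9) ∨ (10 ≤ m ∧ m ≤ 13) ∨ (14 ≤ m ∧ m ≤ 21) ∨ (22 ≤ m ∧ m ≤ 37) ∨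
        (34 ≤ m ∧ m ≤ 61) ∨ (62 ≤ m ∧ m ≤ 117) ∨ (116 ≤ m ∧ m ≤ 225) ∨ (226 ≤ m ∧ m ≤ 445) ∨
        (446 ≤ m ∧ m ≤ 885) ∨ (884 ≤ m ∧ m ≤ 1761) ∨ (1756 ≤ m ∧ m ≤ 3505) ∨
        (3502 ≤ m ∧ m ≤ 6997) by omega) with
      h | h | h | h | h | h | h | h | h | h | h | h
    · exact step 5 (by norm_num) (by omega) (by omega)
    · exact step 7 (by norm_num) (by omega) (by omega)
    · exact step 11 (by norm_num) (by omega) (by omega)
    · exact step 19 (by norm_num) (by omega) (by omega)
    · exact step 31 (by norm_num) (by omega) (by omega)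
    · exact step 59 (by norm_num) (by omega) (by omega)
    · exact step 113 (by norm_num) (by omega) (by omega)
    · exact step 223 (by norm_num) (by omega) (by omega)
    · exact step 443 (by norm_num) (by omega) (by omega)
    · exact step 881 (by norm_num) (by omega) (by omega)
    · exact step 1753 (by norm_num) (by omega) (by omega)
    · exact step 3499 (by norm_num) (by omega) (by omega)
  · by_contra hc
    push Not at hc
    set n := m / 2
    have hfew : ((Finset.Ioc n (2 * n)).filter Nat.Prime).card ≤ 3 := by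
      refine (Finset.card_le_card (t := Finset.Icc (m - 2) m) fun p hp => ?_).trans (by
        rw [Nat.card_Icc]; omega)
      simp only [Finset.mem_filter, Finset.mem_Ioc] at hp
      have := hc p hp.2 (by omega)
      exact Finset.mem_Icc.2 ⟨by omega, by omega⟩
    have h1 := Nat.four_pow_lt_mul_centralBinom n (by omega)
    have h2 := Nat.mul_le_mul_left n (centralBinom_le_few_primes (by omega) hfew)
    exact absurd (lt_of_lt_of_le h1 (h2.trans (main_inequality (by omega)))) (lt_irrefl _)

end Cfsg.Agent.PrimeBounds
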